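import Groth.Agent.Lib.TensorMod.IdealMod
import Groth.Agent.Lib.ModLimH13.Flat
import Groth.Agent.Lib.FlatKer12.Basic
import Groth.Agent.Lib.FormalH7.Ideal
import Groth.Agent.Lib.EffCartier.Comap
import Groth.Agent.Lib.Twist.Pullback
import Groth.Prelude.Def_Omega2

/-! # Base change of conormal sheaves of immersions. -/

set_option autoImplicit false
set_option linter.style.haveILetI false
set_option backward.isDefEq.respectTransparency false
universe u

open CategoryTheory CategoryTheory.Limits AlgebraicGeometry TopologicalSpace Opposite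

namespace Groth.Agent.ConormalBC19

variable {X X' : Scheme.{u}}

theorem app_eq_zero_of_eq {A B : Scheme.{u}} {p q : A ⟶ B} (h : p = q) {U : B.Opens} {a : Γ(B, U)}
    (ha : p.app U a = 0) : q.app U a = 0 := by
  subst h; exact ha

/-- The pullback of functions `O_X → f_* O_{X'}` is adjoint to an isomorphism. -/
theorem isIso_unitAdjoint (f : X' ⟶ X) :
    IsIso (((Scheme.Modules.pullbackPushforwardAdjunction f).homEquiv _ _).symm (ClSub.unitToPush f)) := by
  have h : ((Scheme.Modules.pullbackPushforwardAdjunction f).homEquiv _ _).symm (ClSub.unitToPush f) =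
      (Twist.pullbackUnitIso f).hom := by
    rw [Equiv.symm_apply_eq]
    exact (SheafOfModules.pullbackPushforwardAdjunction_homEquiv_pullbackObjUnitToUnit f.toRingCatSheafHom).symm
  rw [h]; infer_instance

variable (f : X' ⟶ X) (I : X.IdealSheafData) (I' : X'.IdealSheafData) (h : I ≤ I'.map f)

/-- The adjoint of the comparison map, before factoring through the ideal. -/
noncomputable def phi0 : (Scheme.Modules.pullback f).obj (ClSub.idealMod I) ⟶ Coh.structureModule X' :=
  ((Scheme.Modules.pullbackPushforwardAdjunction f).homEquiv _ _).symm (ClSub.idealModι I ≫ ClSub.unitToPush f)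

include h in
theorem phi0_comp : phi0 f I ≫ ClSub.toSubscheme I' = 0 := by
  apply ((Scheme.Modules.pullbackPushforwardAdjunction f).homEquiv _ _).injective
  rw [Adjunction.homEquiv_naturality_right, phi0, Equiv.apply_symm_apply]
  have hz : ((Scheme.Modules.pullbackPushforwardAdjunction f).homEquiv (ClSub.idealMod I)
      ((Scheme.Modules.pushforward I'.subschemeι).obj (Coh.structureModule I'.subscheme))) 0 = 0 := by
    rw [Adjunction.homEquiv_unit, Functor.map_zero, Limits.comp_zero]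
  rw [hz]
  ext U a
  have h1 : I.subschemeι.app U (M2.idealIncl I a) = 0 := M2.subschemeι_app_idealIncl I a
  have h2 : (Scheme.IdealSheafData.subschemeMap I' I f h ≫ I.subschemeι).app U (M2.idealIncl I a) = 0 := by
    rw [Scheme.Hom.comp_app, CommRingCat.comp_apply, h1, map_zero]
  exact app_eq_zero_of_eq (Scheme.IdealSheafData.subschemeMap_subschemeι I' I f h) h2

/-- The comparison map `f^* I → I'`. -/
noncomputable def psi : (Scheme.Modules.pullback f).obj (ClSub.idealMod I) ⟶ ClSub.idealMod I' :=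
  kernel.lift _ (phi0 f I) (phi0_comp f I I' h)

theorem psi_comp : psi f I I' h ≫ ClSub.idealModι I' = phi0 f I := kernel.lift_ι _ _ _

theorem mono_psi [Flat f] : Mono (psi f I I' h) := by
  haveI : Mono (ClSub.idealModι I) := inferInstanceAs (Mono (kernel.ι (ClSub.toSubscheme I)))
  haveI := ModLimH13.mono_pullback_map_of_flat f (ClSub.idealModι I)
  haveI := isIso_unitAdjoint f
  haveI : Mono (phi0 f I) := by
    rw [phi0, Adjunction.homEquiv_naturality_left_symm]
    infer_instance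
  exact mono_of_mono_fac (psi_comp f I I' h)

/-- Sections coming from `I` lie in the image. -/
theorem exists_app_eq (U : X.Opens) (V : X'.Opens) (e : V ≤ f ⁻¹ᵁ U) (a : Γ(ClSub.idealMod I, U)) :
    ∃ s, M2.idealIncl I' ((psi f I I' h).app V s) = f.appLE U V e (M2.idealIncl I a) := by
  let P := (Scheme.Modules.pullback f).obj (ClSub.idealMod I)
  let a' : Γ(P, f ⁻¹ᵁ U) := ((Scheme.Modules.pullbackPushforwardAdjunction f).unit.app (ClSub.idealMod I)).app U a
  refine ⟨P.presheaf.map (homOfLE e).op a', ?_⟩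
  refine (congrArg (M2.idealIncl I') (M1.map_app_eq (psi f I I' h) e a')).trans ?_
  refine (M2.idealIncl_res I' e _).trans ?_
  have key : M2.idealIncl I' ((psi f I I' h).app (f ⁻¹ᵁ U) a') = f.app U (M2.idealIncl I a) := by
    have h1 : (psi f I I' h ≫ ClSub.idealModι I').app (f ⁻¹ᵁ U) a' = (phi0 f I).app (f ⁻¹ᵁ U) a' := by
      rw [psi_comp]
    have h2 : ((Scheme.Modules.pullbackPushforwardAdjunction f).homEquiv _ _ (phi0 f I)).app U a =
        (ClSub.idealModι I ≫ ClSub.unitToPush f).app U a := by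
      rw [phi0, Equiv.apply_symm_apply]
    rw [Adjunction.homEquiv_unit] at h2
    exact h1.trans h2
  rw [key]
  rfl

/-- `ψ` hits everything over an affine open where the ideal is generated by `I`. -/
theorem surjective_app (U : X.affineOpens) (V : X'.affineOpens) (e : V.1 ≤ f ⁻¹ᵁ U.1)
    (hI : I'.ideal V ≤ (I.ideal U).map (f.appLE U.1 V.1 e).hom) :
    Function.Surjective ((psi f I I' h).app V.1) := by
  have key : ∀ x ∈ (I.ideal U).map (f.appLE U.1 V.1 e).hom,
      ∃ s, M2.idealIncl I' ((psi f I I' h).app V.1 s) = x := by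
    intro x hx
    refine Submodule.span_induction ?_ ⟨0, ?_⟩ ?_ ?_ hx
    · rintro _ ⟨y, hy, rfl⟩
      obtain ⟨a, rfl⟩ := (M2.range_idealIncl I U).ge hy
      exact exists_app_eq f I I' h U.1 V.1 e a
    · rw [map_zero]; exact map_zero ((ClSub.idealModι I').app V.1).hom
    · rintro x y - - ⟨s, rfl⟩ ⟨t, rfl⟩
      exact ⟨s + t, by rw [map_add, M2.idealIncl_add]⟩
    · rintro r x - ⟨s, rfl⟩
      exact ⟨r • s, by rw [Scheme.Modules.Hom.app_smul, M2.idealIncl_smul, smul_eq_mul]⟩
  intro t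
  obtain ⟨s, hs⟩ := key _ (hI ((M2.range_idealIncl I' V).le ⟨t, rfl⟩))
  exact ⟨s, M2.idealIncl_injective I' V.1 hs⟩

theorem exists_local_preimage (W' : X'.Opens)
    (hW : ∀ x ∈ W', ∃ U : X.affineOpens, f x ∈ U.1 ∧ ∀ V : X'.affineOpens, ∀ e : V.1 ≤ f ⁻¹ᵁ U.1, V.1 ≤ W' →
      I'.ideal V ≤ (I.ideal U).map (f.appLE U.1 V.1 e).hom)
    (O : X'.Opens) (hO : O ≤ W') (t : Γ(ClSub.idealMod I', O)) (x : X') (hx : x ∈ O) :
    ∃ (V : X'.Opens) (hV : V ≤ O), x ∈ V ∧ ∃ s, (psi f I I' h).app V s =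
      (ClSub.idealMod I').presheaf.map (homOfLE hV).op t := by
  obtain ⟨U, hxU, hU⟩ := hW x (hO hx)
  obtain ⟨V, hV, hxV, hVle⟩ := exists_isAffineOpen_mem_and_subset (U := O ⊓ f ⁻¹ᵁ U.1) (x := x) ⟨hx, hxU⟩
  have hV1 : V ≤ O := fun z hz => (hVle hz).1
  exact ⟨V, hV1, hxV, surjective_app f I I' h U ⟨V, hV⟩ (fun z hz => (hVle hz).2)
    (hU ⟨V, hV⟩ _ (hV1.trans hO)) _⟩

theorem epi_psi (hW : ∀ x : X', ∃ U : X.affineOpens, f x ∈ U.1 ∧ ∀ V : X'.affineOpens, ∀ e : V.1 ≤ f ⁻¹ᵁ U.1,
      I'.ideal V ≤ (I.ideal U).map (f.appLE U.1 V.1 e).hom) :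
    Epi (psi f I I' h) := by
  refine (M1.epi_iff_locally_surjective _).mpr fun O t x hx => ?_
  exact exists_local_preimage f I I' h ⊤ (fun x _ => (hW x).imp fun U hU => ⟨hU.1, fun V e _ => hU.2 V e⟩) O le_top t x hx

theorem epi_restrict_psi (W' : X'.Opens)
    (hW : ∀ x ∈ W', ∃ U : X.affineOpens, f x ∈ U.1 ∧ ∀ V : X'.affineOpens, ∀ e : V.1 ≤ f ⁻¹ᵁ U.1, V.1 ≤ W' →
      I'.ideal V ≤ (I.ideal U).map (f.appLE U.1 V.1 e).hom) :
    Epi ((Scheme.Modules.pullback W'.ι).map (psi f I I' h)) := by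
  suffices hE : Epi ((Scheme.Modules.restrictFunctor W'.ι).map (psi f I I' h)) by
    rw [← NatIso.naturality_1 (Scheme.Modules.restrictFunctorIsoPullback W'.ι) (psi f I I' h)]
    infer_instance
  refine (M1.epi_iff_locally_surjective _).mpr fun O t x hx => ?_
  obtain ⟨V, hV, hxV, s, hs⟩ := exists_local_preimage f I I' h W' hW (W'.ι ''ᵁ O)
    (by rintro _ ⟨z, _, rfl⟩; exact z.2) t x.1 ⟨x, hx, rfl⟩
  refine ⟨W'.ι ⁻¹ᵁ V, fun z hz => ?_, hxV, ?_⟩
  · obtain ⟨z', hz', e⟩ := hV hz
    rwa [← W'.ι.isOpenEmbedding.injective e]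
  · have hle : W'.ι ''ᵁ (W'.ι ⁻¹ᵁ V) ≤ V := by rintro _ ⟨z, hz, rfl⟩; exact hz
    let P := (Scheme.Modules.pullback f).obj (ClSub.idealMod I)
    refine ⟨P.presheaf.map (homOfLE hle).op s, ?_⟩
    refine (M1.map_app_eq (psi f I I' h) hle s).trans ?_
    rw [hs]
    exact (ConcreteCategory.congr_hom ((ClSub.idealMod I').presheaf.map_comp _ _) t).symm

section Immersion

variable {Z Z' : Scheme.{u}} {i : Z ⟶ X} {i' : Z' ⟶ X'} {f} {f' : Z' ⟶ Z} (H : IsPullback f' i' i f)

include H in
theorem ker_le_map : i.ker ≤ i'.ker.map f := by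
  rw [← Scheme.Hom.ker_comp, ← H.w]
  exact Scheme.Hom.le_ker_comp _ _

include H in
theorem range_subset (W : X.Opens) (hW : Set.range i ⊆ W) : Set.range i' ⊆ f ⁻¹ᵁ W := by
  rintro _ ⟨z, rfl⟩
  show f (i' z) ∈ W
  rw [← Scheme.Hom.comp_apply, ← H.w, Scheme.Hom.comp_apply]
  exact hW ⟨_, rfl⟩

include H in
theorem ker_eq_comap [QuasiCompact i] [Flat f] : i'.ker = i.ker.comap f := by
  rw [← FlatKer12.ker_pullback_snd, ← H.isoPullback_hom_snd, Scheme.Hom.ker_comp_of_isIso]

include H in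
theorem ideal_le [IsImmersion i] [QuasiCompact i] (U : X.affineOpens) (hU : U.1 ≤ i.coborderRange)
    (V : X'.affineOpens) (e : V.1 ≤ f ⁻¹ᵁ U.1) :
    i'.ker.ideal V ≤ (i.ker.ideal U).map (f.appLE U.1 V.1 e).hom := by
  set W := i.coborderRange
  set W' := f ⁻¹ᵁ W
  haveI : QuasiCompact i' := MorphismProperty.of_isPullback H inferInstance
  let k := pullback.snd i W.ι
  haveI : IsClosedImmersion k := by
    refine .of_isPreimmersion _ ?_
    have : Set.range k = Set.range i.liftCoborder := by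
      ext z
      rw [Scheme.Pullback.range_snd]
      constructor
      · rintro ⟨x, hx⟩
        refine ⟨x, W.ι.isEmbedding.injective ?_⟩
        rw [← Scheme.Hom.comp_apply, Scheme.Hom.liftCoborder_ι]
        exact hx
      · rintro ⟨x, rfl⟩
        exact ⟨x, by rw [← Scheme.Hom.comp_apply, Scheme.Hom.liftCoborder_ι]⟩
    rw [this]
    exact i.liftCoborder.isClosedEmbedding.isClosed_range
  let k' := pullback.snd i' W'.ι
  have hbig : IsPullback (pullback.fst i' W'.ι ≫ f') k' i ((f ∣_ W) ≫ W.ι) := by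
    rw [morphismRestrict_ι]
    exact (IsPullback.of_hasPullback i' W'.ι).paste_horiz H
  have hsmall : IsPullback (pullback.lift (pullback.fst i' W'.ι ≫ f') (k' ≫ (f ∣_ W))
      (by rw [Category.assoc]; exact hbig.w)) k' k (f ∣_ W) :=
    IsPullback.of_right (by rw [pullback.lift_fst]; exact hbig) (pullback.lift_snd _ _ _)
      (IsPullback.of_hasPullback i W.ι)
  have hk : k'.ker = k.ker.comap (f ∣_ W) := FormalH7.ker_of_isPullback hsmall.flip
  rw [FlatKer12.ker_pullback_snd, FlatKer12.ker_pullback_snd, ← Scheme.IdealSheafData.comap_comp,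
    morphismRestrict_ι, Scheme.IdealSheafData.comap_comp] at hk
  replace hk : i'.ker.comap W'.ι = (i.ker.comap f).comap W'.ι := hk
  have hVW : V.1 ≤ W' := e.trans ((Opens.map f.base).map (homOfLE hU)).le
  set VV : W'.toScheme.affineOpens := ⟨W'.ι ⁻¹ᵁ V.1, V.2.preimage_of_isOpenImmersion W'.ι (by rw [Scheme.Opens.opensRange_ι]; exact hVW)⟩
  have hideal := congrArg (fun J : W'.toScheme.IdealSheafData => J.ideal VV) hk
  simp only [EffCartier.comap_ideal _ W'.ι V VV le_rfl] at hideal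
  rw [← EffCartier.comap_ideal i.ker f U V e]
  have hbij : Function.Bijective (W'.ι.appLE V.1 VV.1 le_rfl) := by
    rw [← Scheme.Hom.app_eq_appLE]
    haveI : IsIso (W'.ι.app V.1) := Scheme.Hom.isIso_app _ _ (by rw [Scheme.Opens.opensRange_ι]; exact hVW)
    exact ConcreteCategory.bijective_of_isIso _
  have := congrArg (Ideal.comap (W'.ι.appLE V.1 VV.1 le_rfl).hom) hideal
  rw [Ideal.comap_map_of_bijective _ hbij, Ideal.comap_map_of_bijective _ hbij] at this
  exact this.le

include H in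
theorem exists_epi [IsImmersion i] [QuasiCompact i] :
    ∃ φ : (Scheme.Modules.pullback f').obj (Omega.conormal i) ⟶ Omega.conormal i',
      Epi φ ∧ (Flat f → IsIso φ) := by
  set W' := f ⁻¹ᵁ i.coborderRange
  have hepi : Epi ((Scheme.Modules.pullback W'.ι).map (psi f i.ker i'.ker (ker_le_map H))) := by
    refine epi_restrict_psi f _ _ _ W' fun x hx => ?_
    obtain ⟨U, hU, hxU, hUle⟩ := exists_isAffineOpen_mem_and_subset (U := i.coborderRange) (x := f x) hx
    exact ⟨⟨U, hU⟩, hxU, fun V e _ => ideal_le H ⟨U, hU⟩ hUle V e⟩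
  have hr : Set.range i' ⊆ W' := range_subset H _ subset_coborder
  let k₀ : Z' ⟶ W'.toScheme := IsOpenImmersion.lift W'.ι i' (by rwa [Scheme.Opens.range_ι])
  have hk₀ : k₀ ≫ W'.ι = i' := IsOpenImmersion.lift_fac _ _ _
  set ψ := psi f i.ker i'.ker (ker_le_map H)
  haveI hψ' : Epi ((Scheme.Modules.pullback i').map ψ) := by
    haveI : (Scheme.Modules.pullback k₀).PreservesEpimorphisms :=
      Functor.preservesEpimorphisms_of_adjunction (Scheme.Modules.pullbackPushforwardAdjunction k₀)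
    haveI := (Scheme.Modules.pullback k₀).map_epi ((Scheme.Modules.pullback W'.ι).map ψ)
    have e := Scheme.Modules.pullbackComp k₀ W'.ι ≪≫ Scheme.Modules.pullbackCongr hk₀
    rw [← NatIso.naturality_1 e ψ]
    simp only [Functor.comp_map]
    infer_instance
  let E := (Scheme.Modules.pullbackComp f' i).app (ClSub.idealMod i.ker) ≪≫
    (Scheme.Modules.pullbackCongr H.w).app _ ≪≫
    ((Scheme.Modules.pullbackComp i' f).app (ClSub.idealMod i.ker)).symm
  refine ⟨E.hom ≫ (Scheme.Modules.pullback i').map ψ, epi_comp _ _, fun _ => ?_⟩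
  haveI : IsIso ψ := by
    haveI : Mono ψ := mono_psi f _ _ _
    haveI : Epi ψ := by
      refine epi_psi f _ _ _ fun x => ?_
      obtain ⟨U, hU, hxU, -⟩ := exists_isAffineOpen_mem_and_subset (U := (⊤ : X.Opens)) (x := f x) trivial
      refine ⟨⟨U, hU⟩, hxU, fun V e => le_of_eq ?_⟩
      rw [ker_eq_comap H]
      exact EffCartier.comap_ideal i.ker f ⟨U, hU⟩ V e
    exact isIso_of_mono_of_epi ψ
  infer_instance

end Immersion

end Groth.Agent.ConormalBC19
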