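import Groth.Agent.Lib.ConormalBC19.Basic
import Groth.Agent.Lib.GrpQuot.Field

/-! # Differentials of the target map of a groupoid scheme. -/

set_option autoImplicit false
set_option linter.style.haveILetI false
universe u

open CategoryTheory CategoryTheory.Limits AlgebraicGeometry

namespace Groth.Agent.ConormalBC19

open Groth.Agent.GrpdB

variable {S : Scheme.{u}} (G : Grpd.GroupoidScheme S)

/-- `(a, b) ↦ a⁻¹ b` on arrows with common target. -/
noncomputable def divMap : pullback G.t G.t ⟶ G.R :=
  cmp G (inv' (pullback.fst G.t G.t)) (pullback.snd G.t G.t) ((inv_s _).trans pullback.condition)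

theorem comp_divMap {T : Scheme.{u}} (q : T ⟶ pullback G.t G.t) :
    q ≫ divMap G = cmp G (inv' (q ≫ pullback.fst G.t G.t)) (q ≫ pullback.snd G.t G.t)
      ((inv_s _).trans (by simp only [Category.assoc, pullback.condition])) := by
  rw [divMap, comp_cmp]
  exact cmp_congr (Category.assoc _ _ _).symm rfl _

/-- The diagonal of the target map is the base change of the identity section. -/
theorem isPullback_diagonal : IsPullback G.s (pullback.diagonal G.t) G.e (divMap G) := by
  have w : G.s ≫ G.e = pullback.diagonal G.t ≫ divMap G := by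
    rw [comp_divMap, cmp_congr (α' := inv' (𝟙 G.R)) (β' := 𝟙 G.R)
      (by rw [pullback.diagonal_fst]) (pullback.diagonal_snd G.t)]
    exact ((G.i_comp (𝟙 G.R)).trans (Category.id_comp _)).symm
  have key : ∀ {T : Scheme.{u}} (a b : T ⟶ G.R) (h : inv' a ≫ G.s = b ≫ G.t) (u : T ⟶ G.U),
      cmp G (inv' a) b h = u ≫ G.e → a = b := by
    intro T a b h u hu
    have h1 : u = b ≫ G.s := by
      have := congrArg (· ≫ G.s) hu
      simp only [cmp_s, Category.assoc, G.e_s, Category.comp_id] at this
      exact this.symm
    have h2 : u = a ≫ G.s := by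
      have := congrArg (· ≫ G.t) hu
      simp only [cmp_t, Category.assoc, G.i_t, G.e_t, Category.comp_id] at this
      exact this.symm
    have ht : a ≫ G.t = b ≫ G.t := (inv_s a).symm.trans h
    have e1 := cancel_left' a b ht
    rw [← e1]
    refine (Eq.trans (cmp_congr rfl hu _) ?_).symm
    exact cmp_id' a u (by rw [Category.assoc, G.e_t, Category.comp_id, h2])
  refine ⟨⟨w⟩, ⟨PullbackCone.IsLimit.mk _ (fun c => c.snd ≫ pullback.fst G.t G.t) (fun c => ?_) (fun c => ?_)
    fun c m h1 h2 => ?_⟩⟩
  all_goals
    have hd : cmp G (inv' (c.snd ≫ pullback.fst G.t G.t)) (c.snd ≫ pullback.snd G.t G.t)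
        ((inv_s _).trans (by simp only [Category.assoc, pullback.condition])) = c.fst ≫ G.e :=
      (comp_divMap G c.snd).symm.trans c.condition.symm
    have hab := key _ _ _ _ hd
  · have := congrArg (· ≫ G.s) hd
    simp only [cmp_s, Category.assoc, G.e_s, Category.comp_id] at this
    rw [Category.assoc, ← this, ← Category.assoc, ← Category.assoc, hab]
  · apply pullback.hom_ext
    · rw [Category.assoc, pullback.diagonal_fst, Category.comp_id]
    · rw [Category.assoc, pullback.diagonal_snd, Category.comp_id, hab]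
  · rw [← h2, Category.assoc, pullback.diagonal_fst, Category.comp_id]

/-- `(a, b) ↦ a⁻¹ b` is a base change of the source map. -/
theorem isPullback_divMap : IsPullback (divMap G) (pullback.fst G.t G.t) G.t G.s := by
  have w : divMap G ≫ G.t = pullback.fst G.t G.t ≫ G.s := by rw [divMap, cmp_t, inv_t]
  refine ⟨⟨w⟩, ⟨PullbackCone.IsLimit.mk _
    (fun c => pullback.lift c.snd (cmp G c.snd c.fst c.condition.symm) (cmp_t _ _ _).symm)
    (fun c => ?_) (fun c => pullback.lift_fst _ _ _) fun c m h1 h2 => ?_⟩⟩
  · rw [comp_divMap, cmp_congr (α' := inv' c.snd) (by rw [pullback.lift_fst]) (pullback.lift_snd _ _ _)]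
    exact cancel_left c.snd c.fst c.condition.symm
  · apply pullback.hom_ext
    · rw [pullback.lift_fst, h2]
    · rw [pullback.lift_snd]
      have h := cancel_left' (m ≫ pullback.fst _ _) (m ≫ pullback.snd _ _)
        (by rw [Category.assoc, Category.assoc, pullback.condition])
      rw [← h]
      exact cmp_congr h2 ((comp_divMap G m).symm.trans h1) _

theorem flat_divMap [Flat G.s] : Flat (divMap G) :=
  MorphismProperty.of_isPullback (isPullback_divMap G).flip inferInstance

theorem main [QuasiSeparated G.t] :
    (∃ φ : (Scheme.Modules.pullback G.s).obj (Omega.conormal G.e) ⟶ Omega.sheaf G.t, Epi φ) ∧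
      (Flat G.s → Nonempty ((Scheme.Modules.pullback G.s).obj (Omega.conormal G.e) ≅ Omega.sheaf G.t)) := by
  haveI : IsImmersion G.e := by
    haveI : IsImmersion (G.e ≫ G.t) := by rw [G.e_t]; infer_instance
    exact IsImmersion.of_comp G.e G.t
  haveI : QuasiCompact G.e := by
    haveI : QuasiCompact (G.e ≫ G.t) := by rw [G.e_t]; infer_instance
    exact QuasiCompact.of_comp G.e G.t
  obtain ⟨φ, hφ, hiso⟩ := exists_epi (isPullback_diagonal G)
  refine ⟨⟨φ, hφ⟩, fun hs => ?_⟩
  haveI := hs
  have h := hiso (flat_divMap G)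
  exact ⟨@asIso _ _ _ _ φ h⟩

end Groth.Agent.ConormalBC19
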